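import Mathlib
import Groth.Agent.FppfRefine.Ph

/-!
# Integral closure in products of algebraically closed fields
-/

universe u
set_option autoImplicit false
open TensorProduct

namespace Groth.Agent.AICCover

/-- A point with values in an algebraically closed field lifts along a finite algebra surjective on spectra. -/
theorem exists_algHom {A Q : Type u} [CommRing A] [CommRing Q] [Algebra A Q] [Module.Finite A Q]
    (hs : Function.Surjective (PrimeSpectrum.comap (algebraMap A Q))) (K : Type u) [Field K] [IsAlgClosed K]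
    [Algebra A K] : Nonempty (Q →ₐ[A] K) := by
  let p : Ideal A := RingHom.ker (algebraMap A K)
  have : p.IsPrime := RingHom.ker_isPrime _
  obtain ⟨⟨q, hq⟩, hqp'⟩ := hs ⟨p, inferInstance⟩
  have hqp : q.comap (algebraMap A Q) = p := congrArg PrimeSpectrum.asIdeal hqp'
  have : q.LiesOver p := ⟨hqp.symm⟩
  let : Algebra (A ⧸ p) K := (Ideal.Quotient.lift p (algebraMap A K) fun a ha => ha).toAlgebra
  have hK : Function.Injective (algebraMap (A ⧸ p) K) :=
    RingHom.lift_injective_of_ker_le_ideal _ _ fun a ha => ha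
  have hqinj : Function.Injective (algebraMap (A ⧸ p) (Q ⧸ q)) := (injective_iff_map_eq_zero _).2 fun a ha => by
    obtain ⟨a, rfl⟩ := Ideal.Quotient.mk_surjective a
    change Ideal.Quotient.mk q (algebraMap A Q a) = 0 at ha
    rw [Ideal.Quotient.eq_zero_iff_mem] at ha
    exact Ideal.Quotient.eq_zero_iff_mem.2 (hqp ▸ Ideal.mem_comap.2 ha)
  have : Module.IsTorsionFree (A ⧸ p) (Q ⧸ q) := Module.isTorsionFree_iff_algebraMap_injective.2 hqinj
  have : Module.IsTorsionFree (A ⧸ p) K := Module.isTorsionFree_iff_algebraMap_injective.2 hK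
  have : Algebra.IsIntegral A Q := Algebra.IsIntegral.of_finite A Q
  have : Algebra.IsAlgebraic (A ⧸ p) (Q ⧸ q) := Algebra.IsIntegral.isAlgebraic
  let ψ : (Q ⧸ q) →ₐ[A ⧸ p] K := IsAlgClosed.lift
  exact ⟨{ (ψ : Q ⧸ q →+* K).comp (Ideal.Quotient.mk q) with
    commutes' := fun a => ψ.commutes (Ideal.Quotient.mk p a) }⟩

/-- A finite algebra surjective on spectra maps to the integral closure in a product of algebraically closed fields. -/
theorem exists_hom_integralClosure {A Q : Type u} [CommRing A] [CommRing Q] [Algebra A Q] [Module.Finite A Q]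
    (hs : Function.Surjective (PrimeSpectrum.comap (algebraMap A Q))) {ι : Type u} (K : ι → Type u) [∀ i, Field (K i)]
    [∀ i, IsAlgClosed (K i)] (σ : A →+* ∀ i, K i) :
    letI := σ.toAlgebra
    ∃ ψ : Q →+* integralClosure A (∀ i, K i),
      ψ.comp (algebraMap A Q) = algebraMap A (integralClosure A (∀ i, K i)) := by
  let := σ.toAlgebra
  have hψ : ∀ i, ∃ φ : Q →+* K i, φ.comp (algebraMap A Q) = (Pi.evalRingHom K i).comp σ := fun i => by
    let := ((Pi.evalRingHom K i).comp σ).toAlgebra
    obtain ⟨φ⟩ := exists_algHom hs (K i)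
    exact ⟨φ, φ.comp_algebraMap⟩
  choose φ hφ using hψ
  have hc : (RingHom.pi φ).comp (algebraMap A Q) = σ := RingHom.ext fun a => funext fun i => RingHom.congr_fun (hφ i) a
  let ψ : Q →ₐ[A] ∀ i, K i := { RingHom.pi φ with commutes' := fun a => RingHom.congr_fun hc a }
  have : Algebra.IsIntegral A Q := Algebra.IsIntegral.of_finite A Q
  exact ⟨(ψ.codRestrict (integralClosure A (∀ i, K i)) fun q =>
    (Algebra.IsIntegral.isIntegral q).map ψ).toRingHom, RingHom.ext fun a => Subtype.ext (ψ.commutes a)⟩

end Groth.Agent.AICCover
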