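import Groth.Agent.AICCover.Alg

/-!
# A canonical integral surjection refining all fppf covers
-/

universe u
set_option autoImplicit false
set_option linter.unusedVariables false
open AlgebraicGeometry CategoryTheory CategoryTheory.Limits

namespace Groth.Agent.AICCover

variable (S : Scheme.{u})

/-- The product of the algebraic closures of the residue fields of the points of an open. -/
abbrev Pts (U : S.Opens) : Type u := ∀ x : U, AlgebraicClosure (S.residueField x.1)

/-- The evaluation at all geometric points. -/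
noncomputable def evalPts (U : S.Opens) : Γ(S, U) →+* Pts S U :=
  RingHom.pi fun x => (algebraMap (S.residueField x.1) (AlgebraicClosure (S.residueField x.1))).comp
    (S.evaluation U x.1 x.2).hom

/-- Restriction of families. -/
noncomputable def resPts {U V : S.Opens} (h : V ≤ U) : Pts S U →+* Pts S V :=
  RingHom.pi fun x => Pi.evalRingHom (fun x : U => AlgebraicClosure (S.residueField x.1)) ⟨x.1, h x.2⟩

theorem evalPts_res {U V : S.Opens} (h : V ≤ U) (a : Γ(S, U)) :
    evalPts S V (S.presheaf.map (homOfLE h).op a) = resPts S h (evalPts S U a) := by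
  funext x
  refine congrArg (algebraMap (S.residueField x.1) (AlgebraicClosure (S.residueField x.1))) ?_
  exact congrArg (S.residue x.1) (S.presheaf.germ_res_apply (homOfLE h) x.1 x.2 a)

/-- The sections of the canonical integral algebra. -/
noncomputable abbrev closurePts (U : S.Opens) : Type u :=
  letI := (evalPts S U).toAlgebra
  ↥(integralClosure Γ(S, U) (Pts S U))

theorem resPts_mem {U V : S.Opens} (h : V ≤ U) {z : Pts S U}
    (hz : letI := (evalPts S U).toAlgebra; IsIntegral Γ(S, U) z) :
    letI := (evalPts S V).toAlgebra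
    IsIntegral Γ(S, V) (resPts S h z) := by
  let := (evalPts S U).toAlgebra
  let := (evalPts S V).toAlgebra
  obtain ⟨p, hp, hz⟩ := hz
  refine ⟨p.map (S.presheaf.map (homOfLE h).op).hom, hp.map _, ?_⟩
  have hc : (algebraMap Γ(S, V) (Pts S V)).comp (S.presheaf.map (homOfLE h).op).hom =
      (resPts S h).comp (algebraMap Γ(S, U) (Pts S U)) := RingHom.ext fun a => evalPts_res S h a
  rw [Polynomial.eval₂_map, hc, ← Polynomial.hom_eval₂, hz, map_zero]

/-- The restriction map of the canonical algebra. -/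
noncomputable def closureRes {U V : S.Opens} (h : V ≤ U) : closurePts S U →+* closurePts S V :=
  letI := (evalPts S U).toAlgebra
  letI := (evalPts S V).toAlgebra
  { toFun := fun z => ⟨resPts S h z.1, resPts_mem S h z.2⟩
    map_one' := Subtype.ext (map_one (resPts S h))
    map_mul' := fun x y => Subtype.ext (map_mul (resPts S h) x.1 y.1)
    map_zero' := Subtype.ext (map_zero (resPts S h))
    map_add' := fun x y => Subtype.ext (map_add (resPts S h) x.1 y.1) }

/-- The canonical algebra on the affine opens. -/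
noncomputable def diagram : S.AffineZariskiSiteᵒᵖ ⥤ CommRingCat.{u} where
  obj U := .of (closurePts S U.unop.1)
  map {U V} i := CommRingCat.ofHom (closureRes S (Scheme.AffineZariskiSite.toOpens_mono i.unop.le))
  map_id U := CommRingCat.hom_ext (RingHom.ext fun z => Subtype.ext rfl)
  map_comp i j := CommRingCat.hom_ext (RingHom.ext fun z => Subtype.ext rfl)

/-- The structure map of the canonical algebra. -/
noncomputable def diagramMap : (Scheme.AffineZariskiSite.toOpensFunctor S).op ⋙ S.presheaf ⟶ diagram S where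
  app U :=
    letI := (evalPts S U.unop.1).toAlgebra
    CommRingCat.ofHom (algebraMap Γ(S, U.unop.1) (closurePts S U.unop.1))
  naturality {U V} i := by
    ext a
    exact Subtype.ext (evalPts_res S (Scheme.AffineZariskiSite.toOpens_mono i.unop.le) a)

theorem evalPts_eq_zero_iff {U : S.Opens} (r : Γ(S, U)) (x : U) :
    evalPts S U r x = 0 ↔ x.1 ∉ S.basicOpen r := by
  rw [← Scheme.evaluation_eq_zero_iff_notMem_basicOpen (hx := x.2)]
  exact map_eq_zero (algebraMap (S.residueField x.1) (AlgebraicClosure (S.residueField x.1)))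

theorem isLocalization_away {U : S.Opens} (hU : IsAffineOpen U) (r : Γ(S, U)) :
    letI := (evalPts S U).toAlgebra
    letI := (closureRes S (S.basicOpen_le r)).toAlgebra
    IsLocalization.Away (algebraMap Γ(S, U) (closurePts S U) r) (closurePts S (S.basicOpen r)) := by
  classical
  have hle : S.basicOpen r ≤ U := S.basicOpen_le r
  let := (evalPts S U).toAlgebra
  let := (evalPts S (S.basicOpen r)).toAlgebra
  let : Algebra (closurePts S U) (closurePts S (S.basicOpen r)) := (closureRes S hle).toAlgebra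
  show IsLocalization.Away (algebraMap Γ(S, U) (closurePts S U) r) (closurePts S (S.basicOpen r))
  let : Algebra Γ(S, U) Γ(S, S.basicOpen r) := (S.presheaf.map (homOfLE hle).op).hom.toAlgebra
  have : IsLocalization.Away r Γ(S, S.basicOpen r) := hU.isLocalization_basicOpen r
  let : Algebra Γ(S, U) (Pts S (S.basicOpen r)) := ((resPts S hle).comp (evalPts S U)).toAlgebra
  have : IsScalarTower Γ(S, U) Γ(S, S.basicOpen r) (Pts S (S.basicOpen r)) :=
    IsScalarTower.of_algebraMap_eq fun a => (evalPts_res S hle a).symm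
  have hu : IsUnit (algebraMap Γ(S, S.basicOpen r) (closurePts S (S.basicOpen r)) (algebraMap Γ(S, U) Γ(S, S.basicOpen r) r)) :=
    (IsLocalization.Away.algebraMap_isUnit r).map _
  have hσ : ∀ a, closureRes S hle (algebraMap Γ(S, U) (closurePts S U) a) =
      algebraMap Γ(S, S.basicOpen r) (closurePts S (S.basicOpen r)) (algebraMap Γ(S, U) Γ(S, S.basicOpen r) a) :=
    fun a => Subtype.ext (evalPts_res S hle a).symm
  refine IsLocalization.Away.mk _ ?_ (fun z => ?_) (fun a b hab => ?_)
  · show IsUnit (closureRes S hle _)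
    rw [hσ]; exact hu
  · have hz : IsIntegral Γ(S, S.basicOpen r) z.1 := z.2
    obtain ⟨⟨_, m, rfl⟩, hm⟩ := IsIntegral.exists_multiple_integral_of_isLocalization (Submonoid.powers r) z.1 hz
    let w : Pts S U := fun x => if h : x.1 ∈ S.basicOpen r then
        ((algebraMap Γ(S, U) (Pts S (S.basicOpen r)) (r ^ m)) * z.1) ⟨x.1, h⟩ else 0
    have hw : IsIntegral Γ(S, U) w := by
      obtain ⟨p, hp, hpz⟩ := hm
      refine ⟨Polynomial.X * p, Polynomial.monic_X.mul hp, funext fun x => ?_⟩
      rw [Polynomial.eval₂_mul, Polynomial.eval₂_X, Pi.mul_apply]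
      by_cases h : x.1 ∈ S.basicOpen r
      · refine mul_eq_zero_of_right _ ?_
        rw [Submonoid.smul_def, Algebra.smul_def] at hpz
        have h1 := congrFun hpz ⟨x.1, h⟩
        show Pi.evalRingHom (fun y : U => AlgebraicClosure (S.residueField y.1)) x (Polynomial.eval₂ _ w p) = 0
        change Pi.evalRingHom (fun y : S.basicOpen r => AlgebraicClosure (S.residueField y.1)) ⟨x.1, h⟩
          (Polynomial.eval₂ _ _ p) = 0 at h1
        rw [Polynomial.hom_eval₂] at h1 ⊢
        simp only [Pi.evalRingHom_apply, w, dif_pos h] at h1 ⊢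
        exact h1
      · exact mul_eq_zero_of_left (by simp only [w, dif_neg h]) _
    refine ⟨m, ⟨w, hw⟩, ?_⟩
    show z * closureRes S hle _ ^ m = closureRes S hle ⟨w, hw⟩
    refine Subtype.ext (funext fun x => ?_)
    show z.1 x * (resPts S hle (evalPts S U r) x) ^ m = w ⟨x.1, hle x.2⟩
    simp only [w, dif_pos (show (⟨x.1, hle x.2⟩ : U).1 ∈ S.basicOpen r from x.2)]
    show _ = (((resPts S hle).comp (evalPts S U)) (r ^ m)) x * z.1 x
    rw [map_pow, Pi.pow_apply, mul_comm]
    rfl
  · refine ⟨1, Subtype.ext (funext fun x => ?_)⟩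
    rw [pow_one]
    show evalPts S U r x * a.1 x = evalPts S U r x * b.1 x
    by_cases h : x.1 ∈ S.basicOpen r
    · exact congrArg _ (congrFun (congrArg Subtype.val hab) ⟨x.1, h⟩)
    · rw [(evalPts_eq_zero_iff S r x).2 h, zero_mul, zero_mul]


theorem coequifibered : (diagramMap S).Coequifibered := by
  classical
  exact Scheme.AffineZariskiSite.coequifibered_iff_forall_isLocalizationAway.mpr fun U r => isLocalization_away S U.2 r

/-- The gluing data. -/
noncomputable def glueData := Scheme.AffineZariskiSite.relativeGluingData (coequifibered S)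

instance : ((glueData S).functor ⋙ Scheme.forget).IsLocallyDirected :=
  Scheme.Cover.RelativeGluingData.instIsLocallyDirectedI₀CompFunctorForgetOfIsThin ..

/-- The canonical integral cover. -/
noncomputable def cover : Scheme.{u} := (glueData S).glued

/-- Its structure map. -/
noncomputable def proj : cover S ⟶ S := (glueData S).toBase

/-- The affine pieces. -/
noncomputable def chart {U : S.Opens} (hU : IsAffineOpen U) : Spec (CommRingCat.of (closurePts S U)) ⟶ cover S :=
  (glueData S).cover.f (⟨U, hU⟩ : S.AffineZariskiSite)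

instance {U : S.Opens} (hU : IsAffineOpen U) : IsOpenImmersion (chart S hU) :=
  (glueData S).cover.map_prop (⟨U, hU⟩ : S.AffineZariskiSite)

theorem chart_proj {U : S.Opens} (hU : IsAffineOpen U) :
    letI := (evalPts S U).toAlgebra
    chart S hU ≫ proj S = Spec.map (CommRingCat.ofHom (algebraMap Γ(S, U) (closurePts S U))) ≫ hU.fromSpec :=
  colimit.ι_desc _ _

theorem proj_preimage {U : S.Opens} (hU : IsAffineOpen U) : proj S ⁻¹ᵁ U = (chart S hU).opensRange := by
  simpa using! (glueData S).toBase_preimage_eq_opensRange_ι (⟨U, hU⟩ : S.AffineZariskiSite)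

set_option backward.isDefEq.respectTransparency.types false in
theorem isIntegralHom_proj : IsIntegralHom (proj S) := by
  rw [IsZariskiLocalAtTarget.iff_of_iSup_eq_top (P := @IsIntegralHom) _ (iSup_affineOpens_eq_top _)]
  intro U
  let := (evalPts S U.1).toAlgebra
  let e := IsOpenImmersion.isoOfRangeEq (proj S ⁻¹ᵁ U.1).ι (chart S U.2) (by
    simpa using congr($(proj_preimage S U.2).1))
  rw [← MorphismProperty.cancel_left_of_respectsIso @IsIntegralHom e.inv,
    ← MorphismProperty.cancel_right_of_respectsIso @IsIntegralHom _ U.2.isoSpec.hom]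
  have hint : (algebraMap Γ(S, U.1) (closurePts S U.1)).IsIntegral := algebraMap_isIntegral_iff.mpr inferInstance
  convert! IsIntegralHom.SpecMap_iff.mpr (show (CommRingCat.ofHom (algebraMap Γ(S, U.1) (closurePts S U.1))).hom.IsIntegral from hint)
  rw [← cancel_mono U.2.fromSpec]
  simp [IsAffineOpen.isoSpec_hom, e, chart_proj]

theorem surjective_proj : Surjective (proj S) := by
  refine ⟨fun x => ?_⟩
  obtain ⟨U, hU, hxU, -⟩ := exists_isAffineOpen_mem_and_subset (x := x) (U := (⊤ : S.Opens)) trivial
  let := (evalPts S U).toAlgebra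
  let χ : closurePts S U →+* AlgebraicClosure (S.residueField x) :=
    (Pi.evalRingHom (fun y : U => AlgebraicClosure (S.residueField y.1)) ⟨x, hxU⟩).comp
      (integralClosure Γ(S, U) (Pts S U)).val.toRingHom
  let P : Spec (CommRingCat.of (closurePts S U)) := ⟨RingHom.ker χ, RingHom.ker_isPrime χ⟩
  refine ⟨chart S hU P, ?_⟩
  rw [← Scheme.Hom.comp_apply, chart_proj, Scheme.Hom.comp_apply]
  have hP : Spec.map (CommRingCat.ofHom (algebraMap Γ(S, U) (closurePts S U))) P = hU.primeIdealOf ⟨x, hxU⟩ := by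
    refine PrimeSpectrum.ext (Ideal.ext fun a => ?_)
    show χ (algebraMap Γ(S, U) (closurePts S U) a) = 0 ↔ _
    show evalPts S U a ⟨x, hxU⟩ = 0 ↔ _
    rw [evalPts_eq_zero_iff, IsAffineOpen.primeIdealOf_eq_map_closedPoint]
    rw [Scheme.mem_basicOpen _ _ x hxU]
    show _ ↔ (S.presheaf.germ U x hxU) a ∈ IsLocalRing.maximalIdeal _
    rw [IsLocalRing.mem_maximalIdeal]
    exact Iff.rfl
  rw [hP, hU.fromSpec_primeIdealOf]

theorem factor_eq {S' : Scheme.{u}} (g : S' ⟶ S) {U : S.Opens} (hU : IsAffineOpen U) {W : S'.Opens}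
    (hW : IsAffineOpen W) (hle : W ≤ g ⁻¹ᵁ U) (L : Type u) [CommRing L] [Algebra (closurePts S U) L]
    (φ : Γ(S', W) →+* L)
    (hφ : letI := (evalPts S U).toAlgebra
      φ.comp (g.appLE U W hle).hom = (algebraMap (closurePts S U) L).comp (algebraMap Γ(S, U) (closurePts S U)))
    (i : Spec (CommRingCat.of L) ⟶ cover S) [IsOpenImmersion i]
    (hi : i = Spec.map (CommRingCat.ofHom (algebraMap (closurePts S U) L)) ≫ chart S hU) :
    (i.isoOpensRange.inv ≫ Spec.map (CommRingCat.ofHom φ) ≫ hW.fromSpec) ≫ g = i.opensRange.ι ≫ proj S := by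
  let := (evalPts S U).toAlgebra
  have e : Spec.map (CommRingCat.ofHom φ) ≫ hW.fromSpec ≫ g = i ≫ proj S := by
    rw [hi, ← IsAffineOpen.SpecMap_appLE_fromSpec g hU hW hle, ← Spec.map_comp_assoc, Category.assoc, chart_proj,
      ← Spec.map_comp_assoc]
    congr 2
    exact CommRingCat.hom_ext hφ
  rw [Category.assoc, Category.assoc, e, ← Category.assoc]
  congr 1
  rw [Iso.inv_comp_eq, Scheme.Hom.isoOpensRange_hom_ι]

theorem exists_factor {S' : Scheme.{u}} (g : S' ⟶ S) [Flat g] [LocallyOfFinitePresentation g] [Surjective g]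
    (t : cover S) : ∃ (V : (cover S).Opens) (r : V.toScheme ⟶ S'), t ∈ V ∧ r ≫ g = V.ι ≫ proj S := by
  classical
  obtain ⟨U, hU, hxU, -⟩ := exists_isAffineOpen_mem_and_subset (x := proj S t) (U := (⊤ : S.Opens)) trivial
  obtain ⟨P, rfl⟩ : t ∈ (chart S hU).opensRange := proj_preimage S hU ▸ hxU
  let ι := {W : S'.affineOpens // W.1 ≤ g ⁻¹ᵁ U}
  let B' : ι → Type u := fun W => Γ(S', W.1.1)
  let : ∀ W : ι, Algebra Γ(S, U) (B' W) := fun W => (g.appLE U W.1.1 W.2).hom.toAlgebra
  have hfl : ∀ W, Module.Flat Γ(S, U) (B' W) := fun W =>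
    HasRingHomProperty.appLE @Flat g inferInstance ⟨U, hU⟩ W.1 W.2
  have hfp : ∀ W, Algebra.FinitePresentation Γ(S, U) (B' W) := fun W =>
    HasRingHomProperty.appLE @LocallyOfFinitePresentation g inferInstance ⟨U, hU⟩ W.1 W.2
  have hcov : ∀ p : PrimeSpectrum Γ(S, U), ∃ W, ∃ q : PrimeSpectrum (B' W),
      PrimeSpectrum.comap (algebraMap Γ(S, U) (B' W)) q = p := by
    intro p
    obtain ⟨s', hs'⟩ := g.surjective (hU.fromSpec p)
    have hs'U : s' ∈ g ⁻¹ᵁ U := by
      show g s' ∈ (U : Set S)
      rw [hs', ← hU.range_fromSpec]; exact Set.mem_range_self p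
    obtain ⟨W, hW, hsW, hle0⟩ := exists_isAffineOpen_mem_and_subset (x := s') hs'U
    have hle : W ≤ g ⁻¹ᵁ U := hle0
    refine ⟨⟨⟨W, hW⟩, hle⟩, hW.primeIdealOf ⟨s', hsW⟩, hU.fromSpec.injective ?_⟩
    show hU.fromSpec (Spec.map (g.appLE U W hle) (hW.primeIdealOf ⟨s', hsW⟩)) = _
    refine (congr($(IsAffineOpen.SpecMap_appLE_fromSpec g hU hW hle) (hW.primeIdealOf ⟨s', hsW⟩))).trans ?_
    refine (congrArg g (hW.fromSpec_primeIdealOf ⟨s', hsW⟩)).trans hs'
  obtain ⟨Q, _, _, _, hsQ, hQ⟩ := FppfRefine.exists_finite_cover_of_fppf B' hfl hfp hcov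
  let := (evalPts S U).toAlgebra
  obtain ⟨ψ, hψ⟩ := exists_hom_integralClosure hsQ (fun x : U => AlgebraicClosure (S.residueField x.1)) (evalPts S U)
  obtain ⟨a, ha, W, j, hj⟩ := hQ (PrimeSpectrum.comap ψ P)
  let L := Localization.Away (ψ a)
  let m : Localization.Away a →+* L :=
    IsLocalization.Away.lift a (g := (algebraMap (closurePts S U) L).comp ψ) (IsLocalization.Away.algebraMap_isUnit (ψ a))
  have hm : (m.comp j).comp (g.appLE U W.1.1 W.2).hom =
      (algebraMap (closurePts S U) L).comp (algebraMap Γ(S, U) (closurePts S U)) := by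
    refine RingHom.ext fun b => ?_
    show m (j (algebraMap Γ(S, U) (B' W) b)) = _
    rw [show j (algebraMap Γ(S, U) (B' W) b) = algebraMap Q (Localization.Away a) (algebraMap Γ(S, U) Q b) from
      RingHom.congr_fun hj b, IsLocalization.Away.lift_eq, RingHom.comp_apply, RingHom.comp_apply]
    exact congrArg _ (RingHom.congr_fun hψ b)
  let i : Spec (CommRingCat.of L) ⟶ cover S :=
    Spec.map (CommRingCat.ofHom (algebraMap (closurePts S U) L)) ≫ chart S hU
  have : IsOpenImmersion (Spec.map (CommRingCat.ofHom (algebraMap (closurePts S U) L))) :=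
    IsOpenImmersion.of_isLocalization (ψ a)
  refine ⟨i.opensRange, i.isoOpensRange.inv ≫ Spec.map (CommRingCat.ofHom (m.comp j)) ≫ W.1.2.fromSpec, ?_, ?_⟩
  · obtain ⟨P', hP'⟩ : P ∈ Set.range (Spec.map (CommRingCat.ofHom (algebraMap (closurePts S U) L))) :=
      (PrimeSpectrum.localization_away_comap_range L (ψ a)).ge ha
    exact ⟨P', by rw [Scheme.Hom.comp_apply, hP']⟩
  · exact factor_eq S g hU W.1.2 W.2 L (m.comp j) hm i rfl

end Groth.Agent.AICCover
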